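import Cfsg.Agent.H981.Inv.HNCodes
import Cfsg.Agent.H687.EqD.EvFa

/-!
# Triangles in the Harada-Norton group: kernel checks, part 2 (helper981, for S3830)
-/

set_option autoImplicit false
set_option maxRecDepth 100000

namespace Cfsg.Agent.H981.InvHN.T2

open Cfsg.Agent.HN Cfsg.Agent.H981.InvHN Cfsg.Agent.Lib.PackMatMul Cfsg.Agent.HN.RepData
open Cfsg.Agent.H839.Rad.HN (evF W A B C₁ D F)

/-- the program -/
def pr : List (ℕ × List ℕ) := [
  (6, [7]),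
  (4, [14, 11, 13]),
  (0, [0, 0, 0, 0, 0, 0, 0, 0, 0, 0, 0, 0, 0, 0, 0, 0, 0, 0]),
  (8, [16, 13, 15]),
  (0, [0, 0, 0, 0, 0, 0, 0, 0]),
  (5, [10, 13, 15, 14]),
  (0, [0, 0, 0, 0, 0, 0, 0, 0, 0, 0]),
  (7, [7, 12, 16, 17, 15]),
  (0, [0, 0, 0, 0, 0, 0, 0, 0, 0, 0])]

/-- the equalities -/
def es : List (ℕ × ℕ) := [(6, 8), (4, 8), (2, 8), (0, 8)]

/-- the inequalities -/
def ns : List (ℕ × ℕ) := []

theorem chk : checkS C pr es ns L2 = true := by decide +kernel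

theorem snd : (∀ q ∈ es, S pr q.1 = S pr q.2) ∧ (∀ q ∈ ns, S pr q.1 ≠ S pr q.2) := soundS chk (by decide)

theorem g (m : ℕ) : S pr (9 + m) = gens2.getD m 1 := genS pr m

theorem gW : S pr 9 = W := g 0
theorem gC : S pr 12 = C₁ := g 3
theorem gF : S pr 14 = F := g 5
theorem gx : S pr 15 = Rep.x := g 6
theorem gxi : S pr 16 = Rep.x⁻¹ := g 7
theorem gy : S pr 17 = Rep.y := g 8
theorem gyi : S pr 18 = Rep.y⁻¹ := g 9
theorem gz : S pr 19 = Rep.z := g 10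
theorem gt : S pr 21 = Rep.t := g 12
theorem gti : S pr 22 = Rep.t⁻¹ := g 13
theorem v_one : S pr 8 = Rep.x * Rep.x⁻¹ := by
  have h := stepS (p := pr) (i := 8) (w := [6, 7]) (by decide) (by rfl)
  simp only [evF, mul_one] at h
  rw [h]
  show S pr 15 * (S pr 16) = _
  rw [gx, gxi]
theorem one_eq : S pr 8 = 1 := by rw [v_one, mul_inv_cancel]
theorem v_u_C : S pr 7 = C₁ * (Rep.t⁻¹ * (Rep.z * Rep.t)) := by
  have h := stepS (p := pr) (i := 7) (w := [4, 14, 11, 13]) (by decide) (by rfl)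
  simp only [evF, mul_one] at h
  rw [h]
  show S pr 12 * (S pr 22 * (S pr 19 * (S pr 21))) = _
  rw [gC, gti, gz, gt]
theorem r_C : (C₁ * (Rep.t⁻¹ * (Rep.z * Rep.t))) ^ 19 = 1 := by
  have h1 := stepS (p := pr) (i := 6) (w := List.replicate 19 0) (by decide) (by rfl)
  rw [evF_replicate] at h1
  have h2 : S pr 6 = S pr 8 := snd.1 (6, 8) (by decide)
  rw [h1, one_eq] at h2
  rw [← v_u_C]
  exact h2
theorem v_u_F : S pr 5 = F * (Rep.t⁻¹ * (Rep.z * Rep.t)) := by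
  have h := stepS (p := pr) (i := 5) (w := [8, 16, 13, 15]) (by decide) (by rfl)
  simp only [evF, mul_one] at h
  rw [h]
  show S pr 14 * (S pr 22 * (S pr 19 * (S pr 21))) = _
  rw [gF, gti, gz, gt]
theorem r_F : (F * (Rep.t⁻¹ * (Rep.z * Rep.t))) ^ 9 = 1 := by
  have h1 := stepS (p := pr) (i := 4) (w := List.replicate 9 0) (by decide) (by rfl)
  rw [evF_replicate] at h1
  have h2 : S pr 4 = S pr 8 := snd.1 (4, 8) (by decide)
  rw [h1, one_eq] at h2
  rw [← v_u_F]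
  exact h2
theorem v_u_F1 : S pr 3 = W * (F * (Rep.y * (Rep.z * Rep.y⁻¹))) := by
  have h := stepS (p := pr) (i := 3) (w := [5, 10, 13, 15, 14]) (by decide) (by rfl)
  simp only [evF, mul_one] at h
  rw [h]
  show S pr 9 * (S pr 14 * (S pr 17 * (S pr 19 * (S pr 18)))) = _
  rw [gW, gF, gy, gz, gyi]
theorem r_F1 : (W * (F * (Rep.y * (Rep.z * Rep.y⁻¹)))) ^ 11 = 1 := by
  have h1 := stepS (p := pr) (i := 2) (w := List.replicate 11 0) (by decide) (by rfl)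
  rw [evF_replicate] at h1
  have h2 : S pr 2 = S pr 8 := snd.1 (2, 8) (by decide)
  rw [h1, one_eq] at h2
  rw [← v_u_F1]
  exact h2
theorem v_u_F2 : S pr 1 = W * (W * (F * (Rep.y⁻¹ * (Rep.z * Rep.y)))) := by
  have h := stepS (p := pr) (i := 1) (w := [7, 7, 12, 16, 17, 15]) (by decide) (by rfl)
  simp only [evF, mul_one] at h
  rw [h]
  show S pr 9 * (S pr 9 * (S pr 14 * (S pr 18 * (S pr 19 * (S pr 17))))) = _
  rw [gW, gF, gyi, gz, gy]
theorem r_F2 : (W * (W * (F * (Rep.y⁻¹ * (Rep.z * Rep.y))))) ^ 11 = 1 := by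
  have h1 := stepS (p := pr) (i := 0) (w := List.replicate 11 0) (by decide) (by rfl)
  rw [evF_replicate] at h1
  have h2 : S pr 0 = S pr 8 := snd.1 (0, 8) (by decide)
  rw [h1, one_eq] at h2
  rw [← v_u_F2]
  exact h2

end Cfsg.Agent.H981.InvHN.T2
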