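import Cfsg.Agent.H981.Inv.HNCodes
import Cfsg.Agent.H687.EqD.EvFa

/-!
# Triangles in the Harada-Norton group: kernel checks, part 3 (helper981, for S3830)
-/

set_option autoImplicit false
set_option maxRecDepth 100000

namespace Cfsg.Agent.H981.InvHN.T3

open Cfsg.Agent.HN Cfsg.Agent.H981.InvHN Cfsg.Agent.Lib.PackMatMul Cfsg.Agent.HN.RepData
open Cfsg.Agent.H839.Rad.HN (evF W A B C₁ D F)

/-- the program -/
def pr : List (ℕ × List ℕ) := [
  (6, [7]),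
  (1, [1, 1, 6, 10, 11, 9]),
  (0, [0, 0, 0, 0, 0, 0, 0, 0, 0, 0, 0, 0, 0, 0, 0, 0, 0, 0]),
  (3, [3, 3, 3, 8, 15, 13, 16]),
  (0, [0, 0, 0, 0, 0, 0, 0, 0, 0, 0]),
  (8, [10]),
  (0, [0, 0, 0, 0]),
  (10, [10, 12]),
  (0, [0, 0, 0, 0]),
  (12, [12, 12, 14]),
  (0, [0, 0, 0, 0]),
  (14, [14, 14, 14, 16]),
  (0, [0, 0, 0, 0])]

/-- the equalities -/
def es : List (ℕ × ℕ) := [(10, 12), (8, 12)]

/-- the inequalities -/
def ns : List (ℕ × ℕ) := [(6, 12), (4, 12), (2, 12), (0, 12)]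

theorem chk : checkS C pr es ns L2 = true := by decide +kernel

theorem snd : (∀ q ∈ es, S pr q.1 = S pr q.2) ∧ (∀ q ∈ ns, S pr q.1 ≠ S pr q.2) := soundS chk (by decide)

theorem g (m : ℕ) : S pr (13 + m) = gens2.getD m 1 := genS pr m

theorem gW : S pr 13 = W := g 0
theorem gC : S pr 16 = C₁ := g 3
theorem gF : S pr 18 = F := g 5
theorem gx : S pr 19 = Rep.x := g 6
theorem gxi : S pr 20 = Rep.x⁻¹ := g 7
theorem gy : S pr 21 = Rep.y := g 8
theorem gyi : S pr 22 = Rep.y⁻¹ := g 9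
theorem gz : S pr 23 = Rep.z := g 10
theorem gt : S pr 25 = Rep.t := g 12
theorem gti : S pr 26 = Rep.t⁻¹ := g 13
theorem v_one : S pr 12 = Rep.x * Rep.x⁻¹ := by
  have h := stepS (p := pr) (i := 12) (w := [6, 7]) (by decide) (by rfl)
  simp only [evF, mul_one] at h
  rw [h]
  show S pr 19 * (S pr 20) = _
  rw [gx, gxi]
theorem one_eq : S pr 12 = 1 := by rw [v_one, mul_inv_cancel]
theorem v_u_F3 : S pr 11 = W * (W * (W * (F * (Rep.y⁻¹ * (Rep.z * Rep.y))))) := by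
  have h := stepS (p := pr) (i := 11) (w := [1, 1, 1, 6, 10, 11, 9]) (by decide) (by rfl)
  simp only [evF, mul_one] at h
  rw [h]
  show S pr 13 * (S pr 13 * (S pr 13 * (S pr 18 * (S pr 22 * (S pr 23 * (S pr 21)))))) = _
  rw [gW, gF, gyi, gz, gy]
theorem r_F3 : (W * (W * (W * (F * (Rep.y⁻¹ * (Rep.z * Rep.y)))))) ^ 19 = 1 := by
  have h1 := stepS (p := pr) (i := 10) (w := List.replicate 19 0) (by decide) (by rfl)
  rw [evF_replicate] at h1
  have h2 : S pr 10 = S pr 12 := snd.1 (10, 12) (by decide)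
  rw [h1, one_eq] at h2
  rw [← v_u_F3]
  exact h2
theorem v_u_F4 : S pr 9 = W * (W * (W * (W * (F * (Rep.t * (Rep.z * Rep.t⁻¹)))))) := by
  have h := stepS (p := pr) (i := 9) (w := [3, 3, 3, 3, 8, 15, 13, 16]) (by decide) (by rfl)
  simp only [evF, mul_one] at h
  rw [h]
  show S pr 13 * (S pr 13 * (S pr 13 * (S pr 13 * (S pr 18 * (S pr 25 * (S pr 23 * (S pr 26))))))) = _
  rw [gW, gF, gt, gz, gti]
theorem r_F4 : (W * (W * (W * (W * (F * (Rep.t * (Rep.z * Rep.t⁻¹))))))) ^ 11 = 1 := by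
  have h1 := stepS (p := pr) (i := 8) (w := List.replicate 11 0) (by decide) (by rfl)
  rw [evF_replicate] at h1
  have h2 : S pr 8 = S pr 12 := snd.1 (8, 12) (by decide)
  rw [h1, one_eq] at h2
  rw [← v_u_F4]
  exact h2
theorem v_u_c1 : S pr 7 = C₁ * F := by
  have h := stepS (p := pr) (i := 7) (w := [8, 10]) (by decide) (by rfl)
  simp only [evF, mul_one] at h
  rw [h]
  show S pr 16 * (S pr 18) = _
  rw [gC, gF]
theorem r_c1 : (C₁ * F) ^ 5 ≠ 1 := by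
  have h1 := stepS (p := pr) (i := 6) (w := List.replicate 5 0) (by decide) (by rfl)
  rw [evF_replicate] at h1
  have h2 : S pr 6 ≠ S pr 12 := snd.2 (6, 12) (by decide)
  rw [h1, one_eq] at h2
  rw [← v_u_c1]
  exact h2
theorem v_u_c2 : S pr 5 = C₁ * (C₁ * F) := by
  have h := stepS (p := pr) (i := 5) (w := [10, 10, 12]) (by decide) (by rfl)
  simp only [evF, mul_one] at h
  rw [h]
  show S pr 16 * (S pr 16 * (S pr 18)) = _
  rw [gC, gF]
theorem r_c2 : (C₁ * (C₁ * F)) ^ 5 ≠ 1 := by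
  have h1 := stepS (p := pr) (i := 4) (w := List.replicate 5 0) (by decide) (by rfl)
  rw [evF_replicate] at h1
  have h2 : S pr 4 ≠ S pr 12 := snd.2 (4, 12) (by decide)
  rw [h1, one_eq] at h2
  rw [← v_u_c2]
  exact h2
theorem v_u_c3 : S pr 3 = C₁ * (C₁ * (C₁ * F)) := by
  have h := stepS (p := pr) (i := 3) (w := [12, 12, 12, 14]) (by decide) (by rfl)
  simp only [evF, mul_one] at h
  rw [h]
  show S pr 16 * (S pr 16 * (S pr 16 * (S pr 18))) = _
  rw [gC, gF]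
theorem r_c3 : (C₁ * (C₁ * (C₁ * F))) ^ 5 ≠ 1 := by
  have h1 := stepS (p := pr) (i := 2) (w := List.replicate 5 0) (by decide) (by rfl)
  rw [evF_replicate] at h1
  have h2 : S pr 2 ≠ S pr 12 := snd.2 (2, 12) (by decide)
  rw [h1, one_eq] at h2
  rw [← v_u_c3]
  exact h2
theorem v_u_c4 : S pr 1 = C₁ * (C₁ * (C₁ * (C₁ * F))) := by
  have h := stepS (p := pr) (i := 1) (w := [14, 14, 14, 14, 16]) (by decide) (by rfl)
  simp only [evF, mul_one] at h
  rw [h]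
  show S pr 16 * (S pr 16 * (S pr 16 * (S pr 16 * (S pr 18)))) = _
  rw [gC, gF]
theorem r_c4 : (C₁ * (C₁ * (C₁ * (C₁ * F)))) ^ 5 ≠ 1 := by
  have h1 := stepS (p := pr) (i := 0) (w := List.replicate 5 0) (by decide) (by rfl)
  rw [evF_replicate] at h1
  have h2 : S pr 0 ≠ S pr 12 := snd.2 (0, 12) (by decide)
  rw [h1, one_eq] at h2
  rw [← v_u_c4]
  exact h2

end Cfsg.Agent.H981.InvHN.T3
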