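import Cfsg.Agent.H981.Inv.Tools
import Cfsg.Agent.H981.Inv.ThDataB
import Cfsg.Agent.H981.Inv.ThDataC
import Cfsg.Agent.H981.Inv.ThDataD
import Cfsg.Agent.H478.RadTh
import Cfsg.Agent.H256.OddInner

/-!
# Involutions and elements of prime order `p ≥ 5` in the Thompson group (helper981, for S3830)

Explicit triangles `(2, 7, 13)`, `(2, 19, 31)`; order 7: one class up to powers; order 5: the Sylow subgroup of
helper478.
-/

set_option autoImplicit false
set_option maxRecDepth 100000

namespace Cfsg.Agent.H981.InvTh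

open Subgroup Cfsg Cfsg.Agent.Th.Gen248 Cfsg.Agent.H459.Inv Cfsg.Agent.H981.InvT Cfsg.Agent.H981.InvThData
open Cfsg.Agent.H478.RadTh
open Cfsg.Agent.H478.RadThA (w0 w1 w2)
open Cfsg.Agent.ThType.Seven (W rho_W W_mul W_inv W_pow W_one W_eq W_ne)

instance two : Fact (Nat.Prime 2) := ⟨Nat.prime_two⟩

theorem ord_gen {l : Lt} (h : evG (.g l) ^ 2 = 1) (hne : Nat.beq (evN false (.g l)) (evN false .one) = false) :
    orderOf (W (.g l)) = 2 := by
  apply orderOf_eq_prime
  · apply W_of
    rw [map_pow, rho_W, map_one, h]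
  · rw [← W_one]
    exact W_ne (evG_ne hne)

theorem ob : orderOf (W (.g .b)) = 2 := ord_gen sqb ckb
theorem oc : orderOf (W (.g .c)) = 2 := ord_gen sqc ckc
theorem od : orderOf (W (.g .d)) = 2 := ord_gen sqd ckd

theorem r19 : W wp ^ 19 = 1 := W_of (by rw [map_pow, rho_W, map_one, e19])
theorem r31 : (W wp * W (.g .c)) ^ 31 = 1 := W_of (by rw [map_pow, map_mul, rho_W, rho_W, map_one, e31])
theorem r7 : W wq ^ 7 = 1 := W_of (by rw [map_pow, rho_W, map_one, e7])
theorem r13 : (W wq * W (.g .d)) ^ 13 = 1 := W_of (by rw [map_pow, map_mul, rho_W, rho_W, map_one, e13])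

theorem all_nineteen : ∀ z : Spor.Th, orderOf z = 19 → NS (MulAut.conj z) :=
  all_of_word (by norm_num) (by decide) (by rw [card_Th]; norm_num) r19 oc r31 (by decide) (by norm_num)

theorem all_thirtyone : ∀ z : Spor.Th, orderOf z = 31 → NS (MulAut.conj z) :=
  all_of_word' (by norm_num) (by decide) (by rw [card_Th]; norm_num) r31 oc r19 (by decide) (by norm_num)

theorem all_thirteen : ∀ z : Spor.Th, orderOf z = 13 → NS (MulAut.conj z) :=
  all_of_word' (by norm_num) (by decide) (by rw [card_Th]; norm_num) r13 od r7 (by decide) (by norm_num)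

theorem o7 : orderOf (W wq) = 7 := by
  have : Fact (Nat.Prime 7) := ⟨by norm_num⟩
  refine orderOf_eq_prime r7 fun h => ?_
  have h1 := r13
  rw [h, one_mul] at h1
  have h2 := orderOf_dvd_of_pow_eq_one h1
  rw [od] at h2
  omega

theorem all_seven : ∀ z : Spor.Th, orderOf z = 7 → NS (MulAut.conj z) := by
  refine all_of_invol (by norm_num) Cfsg.Agent.MonsterX.ThOneClass.oneClass
    (fun x hx => Cfsg.Agent.ThType.Seven.exists_involution_Th isTh hx) ?_ o7
    (ns_word r7 (by decide) od r13 (by decide) (by norm_num))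
  intro t ht
  rw [Cfsg.Agent.MonsterX.ThOneClass.card_centralizer ht]
  norm_num

/-! ### order 5 -/

theorem ns_w0 : NS (MulAut.conj (W w0)) :=
  ns_word rel.wp (by decide) ob (W_of (by rw [map_pow, map_mul, rho_W, rho_W, map_one, e21])) (by decide) (by norm_num)

theorem ns_isConj {x y : Spor.Th} (h : IsConj x y) (hx : NS (MulAut.conj x)) : NS (MulAut.conj y) := by
  obtain ⟨g, hg⟩ := isConj_iff.1 h.symm
  exact ns_conj g (by rw [hg]; exact hx)

theorem five {j n : ℕ} (h5 : (W w1 * W w2 ^ j) ^ 5 = 1)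
    (h : (evG w1 * evG w2 ^ j * evG (.g .b)) ^ n = 1) (hn : Odd n) (hc : n.Coprime 5) :
    NS (MulAut.conj (W w1 * W w2 ^ j)) :=
  ns_word h5 (by decide) ob (W_of (by rw [map_pow, map_mul, map_mul, map_pow, rho_W, rho_W, rho_W, map_one, h])) hn hc

/-- elements of the Heisenberg group have order 5 -/
theorem pow_five (j : ℕ) : (W w1 * W w2 ^ j) ^ 5 = 1 := by
  have h1 : W w1 * W w2 ^ j ∈ Cfsg.Agent.H859.Heis.gp rel :=
    mul_mem (Cfsg.Agent.H859.Heis.b_mem rel) (pow_mem (Cfsg.Agent.H859.Heis.a_mem rel) j)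
  exact Cfsg.Agent.H859.Heis.pow_p rel (by norm_num) h1

theorem all_five : ∀ z : Spor.Th, orderOf z = 5 → NS (MulAut.conj z) := by
  refine of_cube (B := fun x => NS (MulAut.conj x)) (fun x k => ns_pow) (fun t x => ns_conj t) (a := W w1) (b := W w2)
    (c := W w0) (p := 5) (by norm_num) ?_ W01.symm W02.symm ?_ rel.bp rel.ap rel.wp rel.w1 ns_w0
    (ns_isConj isConj_w2 ns_w0) ?_
  · rw [card_Th]; norm_num
  · rw [W12]
    exact ((show Commute (W w0) (W w2) from W02).mul_right (show Commute (W w0) (W w1) from W01)).eq.symm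
  · intro j hj
    interval_cases j
    · show NS (MulAut.conj (W w1 * W w2 ^ 0))
      rw [pow_zero, mul_one]
      exact ns_isConj isConj_w1 ns_w0
    · exact five (pow_five 1) ef1 (by decide) (by norm_num)
    · exact five (pow_five 2) ef2 (by decide) (by norm_num)
    · exact five (pow_five 3) ef3 (by decide) (by norm_num)
    · exact five (pow_five 4) ef4 (by decide) (by norm_num)

theorem prime_cases {p : ℕ} (hp : p.Prime) (h5 : 5 ≤ p) (hd : p ∣ 90745943887872000) :
    p = 5 ∨ p = 7 ∨ p = 13 ∨ p = 19 ∨ p = 31 := by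
  have h1 : (90745943887872000 : ℕ) = 2 ^ 15 * (3 ^ 10 * (5 ^ 3 * (7 ^ 2 * (13 * (19 * 31))))) := by norm_num
  rw [h1] at hd
  simp only [hp.dvd_mul] at hd
  rcases hd with h | h | h | h | h | h | h
  · have := (Nat.prime_dvd_prime_iff_eq hp (by norm_num)).1 (hp.dvd_of_dvd_pow h); omega
  · have := (Nat.prime_dvd_prime_iff_eq hp (by norm_num)).1 (hp.dvd_of_dvd_pow h); omega
  · have := (Nat.prime_dvd_prime_iff_eq hp (by norm_num)).1 (hp.dvd_of_dvd_pow h); omega
  · have := (Nat.prime_dvd_prime_iff_eq hp (by norm_num)).1 (hp.dvd_of_dvd_pow h); omega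
  · have := (Nat.prime_dvd_prime_iff_eq hp (by norm_num)).1 h; omega
  · have := (Nat.prime_dvd_prime_iff_eq hp (by norm_num)).1 h; omega
  · have := (Nat.prime_dvd_prime_iff_eq hp (by norm_num)).1 h; omega

theorem all {p : ℕ} (hp : p.Prime) (h5 : 5 ≤ p) (x : Spor.Th) (hx : orderOf x = p) : NS (MulAut.conj x) := by
  have h1 : p ∣ 90745943887872000 := by rw [← card_Th, ← hx]; exact orderOf_dvd_natCard x
  rcases prime_cases hp h5 h1 with rfl | rfl | rfl | rfl | rfl
  · exact all_five x hx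
  · exact all_seven x hx
  · exact all_thirteen x hx
  · exact all_nineteen x hx
  · exact all_thirtyone x hx

/-- **Row `Th`** -/
theorem irow_Th {K : Type*} [Group K] (h : Cfsg.Spor.IsoTh K) {p : ℕ} (hp : p.Prime) (h5 : 5 ≤ p) : IRow p K := by
  obtain ⟨e⟩ := h
  exact IRow.congr e (irow_of (hp.odd_of_ne_two (by omega)) center_Th
    (Cfsg.Agent.H256.OddInner.th ⟨MulEquiv.refl _⟩) (all hp h5))

end Cfsg.Agent.H981.InvTh
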